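/-
Pushforward of sheaves of sets along inducing maps and closed embeddings.
-/
import Mathlib

set_option autoImplicit false
set_option backward.isDefEq.respectTransparency false
set_option backward.isDefEq.respectTransparency.types false

universe u v w

open CategoryTheory CategoryTheory.Limits TopologicalSpace Opposite

namespace Groth.Agent.SheafEmb

variable {Z X : TopCat.{u}} (i : Z ⟶ X)

/-- `W ↦` the largest open with preimage `W` gives natural transformations back. -/
theorem pushforward_full_faithful {A : Type w} [Category.{v} A] (hi : Topology.IsInducing i) :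
    (TopCat.Sheaf.pushforward A i).Full ∧ (TopCat.Sheaf.pushforward A i).Faithful := by
  constructor
  · refine ⟨fun {F G} φ => ?_⟩
    let e : ∀ W : (Opens Z)ᵒᵖ, op ((Opens.map i).obj (hi.functorObj W.unop)) = W := fun W =>
      congrArg op (hi.map_functorObj W.unop)
    refine ⟨⟨{ app := fun W => eqToHom (congrArg F.1.obj (e W)).symm ≫ φ.1.app (op (hi.functorObj W.unop)) ≫
                 eqToHom (congrArg G.1.obj (e W)),
               naturality := fun W W' f => ?_ }⟩, ?_⟩
    · have h := φ.1.naturality ((hi.functor.map f.unop).op)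
      change F.1.map _ ≫ _ = _ ≫ G.1.map _ at h
      have e1 : F.1.map f = eqToHom (congrArg F.1.obj (e W)).symm ≫
          F.1.map ((Opens.map i).map (hi.functor.map f.unop)).op ≫ eqToHom (congrArg F.1.obj (e W')) := by
        rw [← eqToHom_map F.1 (e W).symm, ← eqToHom_map F.1 (e W'), ← F.1.map_comp, ← F.1.map_comp]
        congr 1
      have e2 : G.1.map f = eqToHom (congrArg G.1.obj (e W)).symm ≫
          G.1.map ((Opens.map i).map (hi.functor.map f.unop)).op ≫ eqToHom (congrArg G.1.obj (e W')) := by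
        rw [← eqToHom_map G.1 (e W).symm, ← eqToHom_map G.1 (e W'), ← G.1.map_comp, ← G.1.map_comp]
        congr 1
      rw [e1, e2]
      simp only [Category.assoc, eqToHom_trans_assoc, eqToHom_refl, Category.id_comp]
      exact congrArg (eqToHom _ ≫ ·) ((reassoc_of% h) _)
    · refine CategoryTheory.Sheaf.hom_ext (NatTrans.ext (funext fun V => ?_))
      change eqToHom _ ≫ φ.1.app _ ≫ eqToHom _ = φ.1.app V
      have hle : V.unop ≤ hi.functorObj ((Opens.map i).obj V.unop) := hi.le_functorObj_iff.2 le_rfl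
      have h := φ.1.naturality (homOfLE hle).op
      change F.1.map _ ≫ _ = _ ≫ G.1.map _ at h
      rw [show (F.1.map ((Opens.map i).op.map (homOfLE hle).op)) = eqToHom (by
          change F.1.obj (op ((Opens.map i).obj (hi.functorObj ((Opens.map i).obj V.unop)))) = F.1.obj (op ((Opens.map i).obj V.unop))
          rw [hi.map_functorObj]) from
        (congrArg F.1.map (Subsingleton.elim _ (eqToHom (congrArg op (hi.map_functorObj _))))).trans (eqToHom_map F.1 _),
        show (G.1.map ((Opens.map i).op.map (homOfLE hle).op)) = eqToHom (by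
          change G.1.obj (op ((Opens.map i).obj (hi.functorObj ((Opens.map i).obj V.unop)))) = G.1.obj (op ((Opens.map i).obj V.unop))
          rw [hi.map_functorObj]) from
        (congrArg G.1.map (Subsingleton.elim _ (eqToHom (congrArg op (hi.map_functorObj _))))).trans (eqToHom_map G.1 _)] at h
      refine (congrArg (eqToHom _ ≫ ·) h.symm).trans ?_
      exact (eqToHom_trans_assoc _ _ _).trans (Category.id_comp _)
  · refine ⟨fun {F G} φ ψ h => CategoryTheory.Sheaf.hom_ext (NatTrans.ext (funext fun W => ?_))⟩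
    have h' := congrArg (fun t => t.1.app (op (hi.functorObj W.unop))) h
    change φ.1.app (op ((Opens.map i).obj (hi.functorObj W.unop))) =
      ψ.1.app (op ((Opens.map i).obj (hi.functorObj W.unop))) at h'
    rwa [show op ((Opens.map i).obj (hi.functorObj W.unop)) = W from congrArg op (hi.map_functorObj W.unop)] at h'

/-- Sections over `⊥` of a sheaf of sets form a singleton. -/
@[instance_reducible] noncomputable def uniqueBot (F : Z.Sheaf (Type u)) : Unique (F.presheaf.obj (op ⊥)) :=
  (Types.isTerminalEquivUnique _).1 F.isTerminalOfEmpty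

theorem exists_section_bot (F : Z.Sheaf (Type u)) {W : Opens Z} (h : W = ⊥) :
    Nonempty (Unique (F.presheaf.obj (op W))) := by
  subst h; exact ⟨uniqueBot F⟩

theorem stalk_pushforward_outside (hi : IsClosed (Set.range i)) (F : Z.Sheaf (Type u)) {x : X}
    (hx : x ∉ Set.range i) :
    Nonempty (Unique (((TopCat.Sheaf.pushforward (Type u) i).obj F).presheaf.stalk x)) := by
  let P := ((TopCat.Sheaf.pushforward (Type u) i).obj F).presheaf
  let V₀ : Opens X := ⟨(Set.range i)ᶜ, hi.isOpen_compl⟩
  have hb : ∀ V : Opens X, V ≤ V₀ → Nonempty (Unique (P.obj (op V))) := fun V hV =>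
    exists_section_bot F (eq_bot_iff.2 fun z hz => hV hz ⟨z, rfl⟩)
  obtain ⟨u₀⟩ := hb V₀ le_rfl
  refine ⟨{ default := P.germ V₀ x hx u₀.default, uniq := fun t => ?_ }⟩
  obtain ⟨V, hxV, s, rfl⟩ := P.exists_germ_eq t
  obtain ⟨u₁⟩ := hb (V ⊓ V₀) inf_le_right
  rw [← P.germ_res_apply (homOfLE (inf_le_left : V ⊓ V₀ ≤ V)) x ⟨hxV, hx⟩ s,
    ← P.germ_res_apply (homOfLE (inf_le_right : V ⊓ V₀ ≤ V₀)) x ⟨hxV, hx⟩ u₀.default]
  exact congrArg _ ((u₁.eq_default _).trans (u₁.eq_default _).symm)

/-- A sheaf with singleton stalks over an open has a singleton of sections. -/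
theorem unique_sections (G : X.Sheaf (Type u)) (V : Opens X)
    (h : ∀ x ∈ V, Nonempty (Unique (G.presheaf.stalk x))) : Nonempty (Unique (G.presheaf.obj (op V))) := by
  have hsub : ∀ W : Opens X, W ≤ V → Subsingleton (G.presheaf.obj (op W)) := fun W hW => ⟨fun s t =>
    TopCat.Presheaf.section_ext G W s t fun x hx =>
      letI := (h x (hW hx)).some; Subsingleton.elim _ _⟩
  have hex : ∀ x : V, ∃ (W : Opens X) (_ : x.1 ∈ W) (_ : W ≤ V), Nonempty (G.presheaf.obj (op W)) := fun x => by
    obtain ⟨W, hxW, s, -⟩ := G.presheaf.exists_germ_eq (h x.1 x.2).some.default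
    exact ⟨W ⊓ V, ⟨hxW, x.2⟩, inf_le_right, ⟨G.presheaf.map (homOfLE inf_le_left).op s⟩⟩
  choose W hxW hWV hne using hex
  haveI := hsub V le_rfl
  obtain ⟨s, -, -⟩ := G.existsUnique_gluing' W V (fun x => homOfLE (hWV x))
    (fun x hx => Opens.mem_iSup.2 ⟨⟨x, hx⟩, hxW ⟨x, hx⟩⟩) (fun x => (hne x).some)
    (fun x y => (hsub (W x ⊓ W y) (inf_le_left.trans (hWV x))).elim _ _)
  exact ⟨uniqueOfSubsingleton s⟩

variable {i}

theorem res_bijective (hi : Topology.IsClosedEmbedding i) (G : X.Sheaf (Type u))
    (hG : ∀ x : X, x ∉ Set.range i → Nonempty (Unique (G.presheaf.stalk x)))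
    {V V' : Opens X} (h : V ≤ V') (heq : ∀ z : Z, i z ∈ V' → i z ∈ V) :
    Function.Bijective (G.presheaf.map (homOfLE h).op) := by
  let V₀ : Opens X := ⟨(Set.range i)ᶜ, hi.isClosed_range.isOpen_compl⟩
  have hu : ∀ W : Opens X, W ≤ V₀ → Nonempty (Unique (G.presheaf.obj (op W))) := fun W hW =>
    unique_sections G W fun x hx => hG x (hW hx)
  let c : Bool → Opens X := fun b => Bool.casesOn b (V' ⊓ V₀) V
  have hc : ∀ b, c b ≤ V' := fun b => Bool.casesOn b inf_le_left h
  have hcov : V' ≤ iSup c := fun x hx => Opens.mem_iSup.2 (by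
    by_cases hxr : x ∈ Set.range i
    · obtain ⟨z, rfl⟩ := hxr; exact ⟨true, heq z hx⟩
    · exact ⟨false, hx, hxr⟩)
  refine ⟨fun s t e => G.eq_of_locally_eq' c V' (fun b => homOfLE (hc b)) hcov s t fun b => ?_, fun s => ?_⟩
  · cases b with
    | false => exact letI := (hu (V' ⊓ V₀) inf_le_right).some; Subsingleton.elim _ _
    | true => exact e
  · obtain ⟨u₀⟩ := hu (V' ⊓ V₀) inf_le_right
    obtain ⟨t, ht, -⟩ := G.existsUnique_gluing' c V' (fun b => homOfLE (hc b)) hcov
      (fun b => match b with | false => u₀.default | true => s) (fun a b => by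
        cases a <;> cases b
        · rfl
        · exact letI := (hu ((V' ⊓ V₀) ⊓ V) (inf_le_left.trans inf_le_right)).some; Subsingleton.elim _ _
        · exact letI := (hu (V ⊓ (V' ⊓ V₀)) (inf_le_right.trans inf_le_right)).some; Subsingleton.elim _ _
        · rfl)
    exact ⟨t, ht true⟩

/-- The sheaf on the closed subspace attached to a sheaf supported there. -/
theorem mem_essImage (hi : Topology.IsClosedEmbedding i) (G : X.Sheaf (Type u))
    (hG : ∀ x : X, x ∉ Set.range i → Nonempty (Unique (G.presheaf.stalk x))) :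
    (TopCat.Sheaf.pushforward (Type u) i).essImage G := by
  let K := hi.isInducing.functorObj
  have hK : ∀ W, (Opens.map i).obj (K W) = W := hi.isInducing.map_functorObj
  have hmono : ∀ {W W' : Opens Z}, W ≤ W' → K W ≤ K W' := fun h =>
    leOfHom (hi.isInducing.functor.map (homOfLE h))
  let P : TopCat.Presheaf (Type u) Z := hi.isInducing.functor.op ⋙ G.presheaf
  have hP : P.IsSheaf := by
    refine TopCat.Presheaf.isSheaf_of_isSheafUniqueGluing_types _ fun ι W sf cpt => ?_
    have hle : (⨆ k, K (W k)) ≤ K (iSup W) := iSup_le fun k => hmono (le_iSup W k)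
    have hbij := res_bijective hi G hG hle fun z hz => by
      have hz' : z ∈ (Opens.map i).obj (K (iSup W)) := hz
      rw [hK] at hz'
      obtain ⟨k, hk⟩ := Opens.mem_iSup.1 hz'
      refine Opens.mem_iSup.2 ⟨k, ?_⟩
      change z ∈ (Opens.map i).obj (K (W k))
      rw [hK]; exact hk
    obtain ⟨t, ht, htu⟩ := G.existsUnique_gluing (fun k => K (W k)) sf fun k l => by
      have hinf : K (W k) ⊓ K (W l) ≤ K (W k ⊓ W l) := hi.isInducing.le_functorObj_iff.2 (fun z hz => by
        obtain ⟨h1, h2⟩ := hz
        exact ⟨(hi.isInducing.mem_functorObj_iff _).1 h1, (hi.isInducing.mem_functorObj_iff _).1 h2⟩)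
      have h := congrArg (G.presheaf.map (homOfLE hinf).op) (cpt k l)
      change (G.presheaf.map _ ≫ G.presheaf.map _) _ = (G.presheaf.map _ ≫ G.presheaf.map _) _ at h
      rw [← G.presheaf.map_comp, ← G.presheaf.map_comp] at h
      exact h
    obtain ⟨t', ht'⟩ := hbij.2 t
    refine ⟨t', fun k => ?_, fun t'' ht'' => hbij.1 (((htu _) fun k => ?_).trans ht'.symm)⟩
    · have h := ht k
      rw [← ht'] at h
      change (G.presheaf.map _ ≫ G.presheaf.map _) _ = _ at h
      rw [← G.presheaf.map_comp] at h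
      exact h
    · have h := ht'' k
      change (G.presheaf.map _ ≫ G.presheaf.map _) _ = _
      rw [← G.presheaf.map_comp]
      exact h
  have hle : ∀ V : Opens X, V ≤ K ((Opens.map i).obj V) := fun V => hi.isInducing.le_functorObj_iff.2 le_rfl
  haveI : ∀ V : Opens X, IsIso (G.presheaf.map (homOfLE (hle V)).op) := fun V =>
    (isIso_iff_bijective _).2 (res_bijective hi G hG (hle V) fun z hz =>
      (hi.isInducing.mem_functorObj_iff ((Opens.map i).obj V)).1 hz)
  refine ⟨⟨P, hP⟩, ⟨(fullyFaithfulSheafToPresheaf _ _).preimageIso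
    (NatIso.ofComponents (fun V => asIso (G.presheaf.map (homOfLE (hle V.unop)).op)) fun {V V'} f => ?_)⟩⟩
  change G.presheaf.map _ ≫ G.presheaf.map _ = G.presheaf.map _ ≫ G.presheaf.map _
  rw [← G.presheaf.map_comp, ← G.presheaf.map_comp]
  rfl

end Groth.Agent.SheafEmb
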